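import Cfsg.Agent.H839.EP.AltFrame
import Cfsg.Agent.S0713
import Cfsg.Agent.Lib.Cores
import Cfsg.Agent.Lib.HallHigman
import Cfsg.Agent.SmallSimple.S1000.PSLFacts

/-!
# S3499 (IV-L), `soc(A) = A₁₀`: the index of `A` is at most `2 ^ 34` (helper839)

`Br` is the statement of S1000 (simple groups of order `p 3^a 2^b`). The maximal subgroups of `G`, `A₁₀ ≤ G ≤ S₁₀`, which do not contain
`A₁₀`: stabilisers of sets, of partitions in two blocks of size five, centralizers of fixed point free involutions, normalizers of transitive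
`A₅` or `A₆`.
-/

set_option autoImplicit false

namespace Cfsg.Agent.H839.EP

open Subgroup Equiv Equiv.Perm Cfsg.Agent.H284

/-- a primitive group of degree `10` not containing `A₁₀` contains no Sylow subgroup of `S₁₀` -/
theorem not_pow_dvd {L : Subgroup (Perm (Fin 10))} (hP : MulAction.IsPreprimitive L (Fin 10))
    (hn : ¬ alternatingGroup (Fin 10) ≤ L) {p : ℕ} (hp : p.Prime) (hp7 : p ≤ 7) :
    ¬ p ^ ((Nat.factorial 10).factorization p) ∣ Nat.card L := by
  intro hd
  have hpf := Fact.mk hp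
  have hc10 : Nat.card (Perm (Fin 10)) = Nat.factorial 10 := by
    rw [Nat.card_perm, Nat.card_eq_fintype_card, Fintype.card_fin]
  obtain ⟨c, hc⟩ : ∃ c : Perm (Fin 10), c.cycleType = {p} :=
    (Equiv.Perm.exists_with_cycleType_iff _).2 ⟨by
      simp only [Multiset.sum_singleton, Fintype.card_fin]; omega, by
      intro a ha
      rw [Multiset.mem_singleton] at ha
      rw [ha]
      exact hp.two_le⟩
  have hcy : c.IsCycle := by rw [← card_cycleType_eq_one, hc]; simp
  have hsup : c.support.card = p := by rw [← sum_cycleType, hc]; simp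
  have hord : orderOf c = p := by rw [hcy.orderOf, hsup]
  have hcp : IsPGroup p (zpowers c) := by
    refine IsPGroup.of_card (n := 1) ?_
    rw [Nat.card_zpowers, hord, pow_one]
  obtain ⟨S, hS⟩ := hcp.exists_le_sylow
  obtain ⟨P⟩ : Nonempty (Sylow p L) := inferInstance
  have hcardP : Nat.card ((P : Subgroup L).map L.subtype : Subgroup (Perm (Fin 10))) =
      p ^ (Nat.card (Perm (Fin 10))).factorization p := by
    have h1 : Nat.card ((P : Subgroup L).map L.subtype : Subgroup (Perm (Fin 10))) = Nat.card P :=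
      (Nat.card_congr ((P : Subgroup L).equivMapOfInjective L.subtype L.subtype_injective).toEquiv).symm
    rw [h1, P.card_eq_multiplicity]
    congr 1
    apply le_antisymm
    · exact (Nat.factorization_le_iff_dvd Nat.card_pos.ne' Nat.card_pos.ne').2 L.card_subgroup_dvd_card p
    · rw [hc10]
      exact (hp.pow_dvd_iff_le_factorization Nat.card_pos.ne').1 hd
  obtain ⟨g, hg⟩ := MulAction.exists_smul_eq (Perm (Fin 10)) S (Sylow.ofCard _ hcardP)
  have h2 : g * c * g⁻¹ ∈ L := by
    have h3 : g * c * g⁻¹ ∈ ((Sylow.ofCard _ hcardP : Sylow p (Perm (Fin 10))) : Subgroup (Perm (Fin 10))) := by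
      rw [← hg, Sylow.smul_def]
      refine ⟨c, hS (mem_zpowers c), rfl⟩
    obtain ⟨y, -, hy⟩ := h3
    rw [← hy]
    exact y.2
  apply hn
  refine Cfsg.Agent.S0713.result L hP hp (by simp) (by simp; omega) (g := g * c * g⁻¹) ?_ ?_ h2
  · exact (card_cycleType_eq_one).1 (by rw [cycleType_conj, hc]; simp)
  · rw [card_support_conj, hsup]

/-- the subgroup generated by the elements of order `p` -/
def gp (p : ℕ) (L : Type*) [Group L] : Subgroup L := closure {g | g ^ p = 1}

instance gp_normal (p : ℕ) (L : Type*) [Group L] : (gp p L).Normal := by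
  constructor
  intro x hx g
  refine closure_induction (p := fun x _ => g * x * g⁻¹ ∈ gp p L) ?_ ?_ ?_ ?_ hx
  · intro x hx
    apply Subgroup.subset_closure
    show (g * x * g⁻¹) ^ p = 1
    rw [conj_pow, show x ^ p = 1 from hx, mul_one, mul_inv_cancel]
  · rw [mul_one, mul_inv_cancel]
    exact one_mem _
  · intro x y _ _ h1 h2
    have e : g * (x * y) * g⁻¹ = (g * x * g⁻¹) * (g * y * g⁻¹) := by group
    rw [e]
    exact mul_mem h1 h2
  · intro x _ h1
    have e : g * x⁻¹ * g⁻¹ = (g * x * g⁻¹)⁻¹ := by group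
    rw [e]
    exact inv_mem h1

/-- the elements of order `p` generate a simple group -/
theorem gp_simple {L : Type*} [Group L] [Finite L] {p : ℕ} [hp : Fact p.Prime] (h1 : ¬ p ^ 2 ∣ Nat.card L)
    (h2 : ∀ N : Subgroup L, N.Normal → N ≠ ⊥ → p ∣ Nat.card N) (h0 : p ∣ Nat.card L) : IsSimpleGroup (gp p L) := by
  have hmem : ∀ g : L, g ^ p = 1 → g ∈ gp p L := fun g hg => Subgroup.subset_closure hg
  obtain ⟨c, hc⟩ := exists_prime_orderOf_dvd_card' p h0
  have hcK : c ∈ gp p L := hmem c (by rw [← hc]; exact pow_orderOf_eq_one c)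
  have hc1 : c ≠ 1 := by
    rintro rfl
    rw [orderOf_one] at hc
    exact hp.out.one_lt.ne hc
  have hnt : Nontrivial (gp p L) := ⟨⟨⟨c, hcK⟩, 1, fun e => hc1 (Subtype.ext_iff.1 e)⟩⟩
  have hcore : Cfsg.pPrimeCore p (gp p L) = ⊥ := by
    by_contra hne
    have h3 : ((Cfsg.pPrimeCore p (gp p L)).map (gp p L).subtype).Normal := by
      have := Cfsg.Agent.Lib.Cores.pPrimeCore_characteristic (G := gp p L) p
      infer_instance
    have h4 := h2 _ h3 (by rw [Ne, Subgroup.map_eq_bot_iff_of_injective _ (gp p L).subtype_injective]; exact hne)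
    have h5 : Nat.card ((Cfsg.pPrimeCore p (gp p L)).map (gp p L).subtype : Subgroup L) = Nat.card (Cfsg.pPrimeCore p (gp p L)) :=
      (Nat.card_congr ((Cfsg.pPrimeCore p (gp p L)).equivMapOfInjective _ (gp p L).subtype_injective).toEquiv).symm
    rw [h5] at h4
    have h6 := Cfsg.Agent.Lib.Cores.pPrimeCore_coprime (G := gp p L) p
    exact (hp.out.coprime_iff_not_dvd.1 h6.symm) h4
  have h1K : ¬ p ^ 2 ∣ Nat.card (gp p L) := fun hd => h1 (hd.trans (gp p L).card_subgroup_dvd_card)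
  refine { exists_pair_ne := hnt.exists_pair_ne, eq_bot_or_eq_top_of_normal := ?_ }
  intro M hM
  by_cases hpM : p ∣ Nat.card M
  · right
    obtain ⟨m, hm⟩ := exists_prime_orderOf_dvd_card' p hpM
    have hm' : orderOf (m : gp p L) = p := by rw [Subgroup.orderOf_coe, hm]
    have hcs : ∀ g : gp p L, orderOf g = p → Nat.card (zpowers g) = p ^ (Nat.card (gp p L)).factorization p := by
      intro g hg
      rw [Nat.card_zpowers, hg]
      have h7 : (Nat.card (gp p L)).factorization p = 1 := by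
        apply le_antisymm
        · by_contra hcon
          push Not at hcon
          exact h1K ((hp.out.pow_dvd_iff_le_factorization Nat.card_pos.ne').2 hcon)
        · have : p ^ 1 ∣ Nat.card (gp p L) := by
            have h9 := _root_.orderOf_dvd_natCard g
            rw [hg] at h9
            rwa [pow_one]
          exact (hp.out.pow_dvd_iff_le_factorization Nat.card_pos.ne').1 this
      rw [h7, pow_one]
    have key : ∀ g : gp p L, g ^ p = 1 → g ∈ M := by
      intro g hg
      by_cases hg1 : g = 1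
      · rw [hg1]; exact one_mem _
      have hgo : orderOf g = p := orderOf_eq_prime hg hg1
      obtain ⟨x, hx⟩ := MulAction.exists_smul_eq (gp p L) (Sylow.ofCard _ (hcs m hm')) (Sylow.ofCard _ (hcs g hgo))
      have h8 : g ∈ ((Sylow.ofCard _ (hcs g hgo) : Sylow p (gp p L)) : Subgroup (gp p L)) := mem_zpowers g
      rw [← hx, Sylow.smul_def] at h8
      obtain ⟨y, hy, h9⟩ := h8
      rw [← h9]
      exact hM.conj_mem y (zpowers_le_of_mem m.2 hy) x
    rw [eq_top_iff]
    rintro ⟨x, hx⟩ -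
    have h8 : gp p L ≤ M.map (gp p L).subtype := by
      refine (closure_le _).2 ?_
      intro g hg
      exact ⟨⟨g, hmem g hg⟩, key _ (Subtype.ext hg), rfl⟩
    obtain ⟨y, hy, h9⟩ := h8 hx
    have h10 : y = ⟨x, hx⟩ := Subtype.ext h9
    rw [← h10]
    exact hy
  · left
    have h3 := Cfsg.Agent.Lib.Cores.le_pPrimeCore hM ((hp.out.coprime_iff_not_dvd.2 hpM).symm)
    rw [hcore] at h3
    exact le_bot_iff.1 h3

theorem not_pow_dvd' {L : Subgroup (Perm (Fin 10))} (hP : MulAction.IsPreprimitive L (Fin 10))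
    (hn : ¬ alternatingGroup (Fin 10) ≤ L) {p k : ℕ} (hp : p.Prime) (hp7 : p ≤ 7)
    (hk : ¬ p ^ (k + 1) ∣ Nat.factorial 10) : ¬ p ^ k ∣ Nat.card L := by
  intro hd
  apply not_pow_dvd hP hn hp hp7
  refine (Nat.pow_dvd_pow p ?_).trans hd
  by_contra hcon
  push Not at hcon
  exact hk ((hp.pow_dvd_iff_le_factorization (Nat.factorial_ne_zero 10)).2 hcon)

/-- the theorem of Brauer and Wales (S1000) -/
def Br : Prop :=
  ∀ {G : Type} [Group G] [Finite G] [IsSimpleGroup G], ¬ IsMulCommutative G → ∀ (p a b : ℕ), p.Prime →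
    Nat.card G = p * 3 ^ a * 2 ^ b → Nonempty (G ≃* alternatingGroup (Fin 5)) ∨ Nonempty (G ≃* alternatingGroup (Fin 6)) ∨
      (∃ (F : Type) (_ : Field F) (_ : Fintype F), Fintype.card F = 3 ∧ Nonempty (G ≃* Cfsg.PSp 2 F)) ∨
      (∃ (F : Type) (_ : Field F) (_ : Fintype F), (Fintype.card F = 7 ∨ Fintype.card F = 8 ∨ Fintype.card F = 17) ∧
        Nonempty (G ≃* Matrix.ProjectiveSpecialLinearGroup (Fin 2) F)) ∨
      (∃ (F : Type) (_ : Field F) (_ : Fintype F), Fintype.card F = 9 ∧ Nonempty (G ≃* Cfsg.PSU 3 F 3)) ∨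
      (∃ (F : Type) (_ : Field F) (_ : Fintype F), Fintype.card F = 3 ∧
        Nonempty (G ≃* Matrix.ProjectiveSpecialLinearGroup (Fin 3) F))

/-- a nontrivial normal subgroup of a primitive group is transitive -/
theorem trans_of_normal {L : Subgroup (Perm (Fin 10))} (hP : MulAction.IsPreprimitive L (Fin 10)) (N : Subgroup L)
    (hN : N.Normal) (hne : N ≠ ⊥) : MulAction.IsPretransitive N (Fin 10) := by
  apply MulAction.IsQuasiPreprimitive.isPretransitive_of_normal (G := L)
  intro h1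
  apply hne
  rw [Subgroup.eq_bot_iff_forall]
  intro g hg
  apply Subtype.ext
  ext i
  have h2 : i ∈ MulAction.fixedPoints N (Fin 10) := by rw [h1]; exact Set.mem_univ i
  have h3 := h2 ⟨g, hg⟩
  rw [show ((⟨g, hg⟩ : N) • i) = (g : Perm (Fin 10)) i from rfl] at h3
  rw [h3]
  rfl

theorem ten_dvd_of_trans {N : Type*} [Group N] [Finite N] [MulAction N (Fin 10)] (h : MulAction.IsPretransitive N (Fin 10)) :
    10 ∣ Nat.card N := by
  have h1 := MulAction.index_stabilizer_of_transitive N (0 : Fin 10)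
  rw [Nat.card_eq_fintype_card, Fintype.card_fin] at h1
  rw [← h1]
  exact Subgroup.index_dvd_card _

theorem prim_socle (hB : Br) {L : Subgroup (Perm (Fin 10))} (hP : MulAction.IsPreprimitive L (Fin 10))
    (hn : ¬ alternatingGroup (Fin 10) ≤ L) :
    MulAction.IsPretransitive (gp 5 L) (Fin 10) ∧
      (Nonempty (gp 5 L ≃* alternatingGroup (Fin 5)) ∨ Nonempty (gp 5 L ≃* alternatingGroup (Fin 6))) := by
  have h5 : Fact (Nat.Prime 5) := ⟨by norm_num⟩
  have h10 : 10 ∣ Nat.card L := ten_dvd_of_trans hP.toIsPretransitive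
  have h25 : ¬ 5 ^ 2 ∣ Nat.card L := not_pow_dvd' hP hn (by norm_num) (by norm_num) (by decide)
  have h49 : ¬ 7 ^ 1 ∣ Nat.card L := not_pow_dvd' hP hn (by norm_num) (by norm_num) (by decide)
  have h81 : ¬ 3 ^ 4 ∣ Nat.card L := not_pow_dvd' hP hn (by norm_num) (by norm_num) (by decide)
  have hS : IsSimpleGroup (gp 5 L) := by
    refine gp_simple h25 ?_ ((by norm_num : (5 : ℕ) ∣ 10).trans h10)
    intro N hN hne
    exact (by norm_num : (5 : ℕ) ∣ 10).trans (ten_dvd_of_trans (trans_of_normal hP N hN hne))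
  have hne : gp 5 L ≠ ⊥ := by
    intro e
    have h1 : Nontrivial (gp 5 L) := inferInstance
    rw [e] at h1
    exact not_nontrivial _ h1
  have htr := trans_of_normal hP (gp 5 L) inferInstance hne
  refine ⟨htr, ?_⟩
  have h10X := ten_dvd_of_trans htr
  have hXL : Nat.card (gp 5 L) ∣ Nat.card L := (gp 5 L).card_subgroup_dvd_card
  have hL : Nat.card L ∣ 2 ^ 8 * 3 ^ 4 * 5 ^ 2 * 7 := by
    have h1 := L.card_subgroup_dvd_card
    rw [Nat.card_perm, Nat.card_fin] at h1
    exact h1
  have hnc : ¬ IsMulCommutative (gp 5 L) := by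
    intro hc
    obtain ⟨t, ht⟩ := exists_prime_orderOf_dvd_card' 2 ((by norm_num : (2 : ℕ) ∣ 10).trans h10X)
    have h1 : (zpowers t).Normal := ⟨fun x hx g => by
      have : g * x * g⁻¹ = x := by rw [hc.is_comm.comm g x, mul_assoc, mul_inv_cancel, mul_one]
      rw [this]; exact hx⟩
    rcases h1.eq_bot_or_eq_top with h2 | h2
    · have h3 : t ∈ zpowers t := mem_zpowers t
      rw [h2, mem_bot] at h3
      rw [h3, orderOf_one] at ht
      norm_num at ht
    · have h3 : Nat.card (zpowers t) = Nat.card (gp 5 L) := by rw [h2, Subgroup.card_top]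
      rw [Nat.card_zpowers, ht] at h3
      rw [← h3] at h10X
      norm_num at h10X
  obtain ⟨m, hm⟩ : 5 ∣ Nat.card (gp 5 L) := (by norm_num : (5 : ℕ) ∣ 10).trans h10X
  have hm5 : ¬ 5 ∣ m := by
    rintro ⟨k, hk⟩
    apply h25
    refine Dvd.dvd.trans ?_ hXL
    rw [hm, hk]
    exact ⟨k, by ring⟩
  have hm7 : ¬ 7 ∣ m := by
    intro hd
    apply h49
    rw [pow_one]
    exact (hd.trans ⟨5, by rw [hm, mul_comm]⟩).trans hXL
  have hmd : m ∣ 2 ^ 8 * 3 ^ 4 := by
    have h1 : m ∣ 2 ^ 8 * 3 ^ 4 * 5 ^ 2 * 7 := (Dvd.intro_left 5 hm.symm).trans (hXL.trans hL)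
    have h2 : m ∣ 2 ^ 8 * 3 ^ 4 * 5 ^ 2 :=
      Nat.Coprime.dvd_of_dvd_mul_right (((Nat.Prime.coprime_iff_not_dvd (by norm_num)).2 hm7).symm) h1
    exact Nat.Coprime.dvd_of_dvd_mul_right
      (Nat.Coprime.pow_right 2 ((Nat.Prime.coprime_iff_not_dvd (by norm_num)).2 hm5).symm) h2
  obtain ⟨y, z, hy, hz, hyz⟩ := Nat.dvd_mul.1 hmd
  obtain ⟨b, -, rfl⟩ := (Nat.dvd_prime_pow (by norm_num)).1 hy
  obtain ⟨a, -, rfl⟩ := (Nat.dvd_prime_pow (by norm_num)).1 hz
  have hcard : Nat.card (gp 5 L) = 5 * 3 ^ a * 2 ^ b := by rw [hm, ← hyz]; ring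
  have hbad : ∀ p : ℕ, p ∣ Nat.card (gp 5 L) → ¬ p ∣ 2 ^ 8 * 3 ^ 4 * 5 ^ 2 * 7 → False := by
    intro p h1 h2
    exact h2 (h1.trans (hXL.trans hL))
  have hbad7 : ¬ 7 ∣ Nat.card (gp 5 L) := fun h1 => h49 (by rw [pow_one]; exact h1.trans hXL)
  rcases hB hnc 5 a b (by norm_num) hcard with h1 | h1 | ⟨F, _, _, hF, ⟨e⟩⟩ | ⟨F, _, _, hF, ⟨e⟩⟩ | ⟨F, _, _, hF, ⟨e⟩⟩ |
    ⟨F, _, _, hF, ⟨e⟩⟩
  · exact Or.inl h1
  · exact Or.inr h1
  · exfalso
    apply h81
    refine Dvd.dvd.trans ?_ hXL
    rw [Nat.card_congr e.toEquiv, Cfsg.Agent.SmallSimple.PSLFacts.card_psp_two_three hF]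
    norm_num
  · exfalso
    rcases hF with hF | hF | hF
    · apply hbad7
      rw [Nat.card_congr e.toEquiv, Cfsg.Agent.SmallSimple.PSLFacts.card_psl_two_seven hF]
      norm_num
    · apply hbad7
      rw [Nat.card_congr e.toEquiv, Cfsg.Agent.SmallSimple.PSLFacts.card_psl_two_eight hF]
      norm_num
    · apply hbad 17 _ (by norm_num)
      rw [Nat.card_congr e.toEquiv, Cfsg.Agent.SmallSimple.PSLFacts.card_psl_two_seventeen hF]
      norm_num
  · exfalso
    apply hbad7
    rw [Nat.card_congr e.toEquiv, Cfsg.Agent.SmallSimple.PSLFacts.card_psu_three_three hF]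
    norm_num
  · exfalso
    apply hbad 13 _ (by norm_num)
    rw [Nat.card_congr e.toEquiv, Cfsg.Agent.SmallSimple.PSLFacts.card_psl_three_three hF]
    norm_num

/-- a subgroup of index ten of a simple group with a normal Sylow `3`-subgroup is its normalizer -/
theorem eq_normalizer {T : Type*} [Group T] [Finite T] [IsSimpleGroup T] (h3 : 3 ∣ Nat.card T) {H : Subgroup T}
    (hH : H.index = 10) (P : Sylow 3 T) (hn : H ≤ normalizer ((P : Subgroup T) : Set T)) :
    H = normalizer ((P : Subgroup T) : Set T) := by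
  have hp : Fact (Nat.Prime 3) := ⟨by norm_num⟩
  have h10 : 10 ∣ Nat.card T := by rw [← hH]; exact H.index_dvd_card
  have h1 : H.relIndex (normalizer ((P : Subgroup T) : Set T)) * (normalizer ((P : Subgroup T) : Set T)).index = 10 := by
    rw [Subgroup.relIndex_mul_index hn, hH]
  have h2 : (normalizer ((P : Subgroup T) : Set T)).index % 3 = 1 := by
    have h3 := P.card_eq_index_normalizer
    change _ = (normalizer ((P : Subgroup T) : Set T)).index at h3
    rw [← h3]
    exact card_sylow_modEq_one 3 T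
  have h4 : (normalizer ((P : Subgroup T) : Set T)).index ∣ 10 := Dvd.intro_left _ h1
  have h5 : (normalizer ((P : Subgroup T) : Set T)).index ≠ 1 := by
    intro h6
    have h7 : (P : Subgroup T).Normal := normalizer_eq_top_iff.1 (index_eq_one.1 h6)
    rcases h7.eq_bot_or_eq_top with h8 | h8
    · have h9 := P.card_eq_multiplicity
      rw [h8, Subgroup.card_bot] at h9
      have h10 := (Nat.Prime.dvd_iff_one_le_factorization (by norm_num) Nat.card_pos.ne').1 h3
      have h11 : 3 ^ 1 ≤ 3 ^ (Nat.card T).factorization 3 := Nat.pow_le_pow_right (by norm_num) h10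
      omega
    · have h9 : Nat.card T = 3 ^ (Nat.card T).factorization 3 := by
        have h12 := P.card_eq_multiplicity
        rw [h8, Subgroup.card_top] at h12
        exact h12
      have h13 : 2 ∣ 3 ^ (Nat.card T).factorization 3 := by
        rw [← h9]
        exact (by norm_num : (2 : ℕ) ∣ 10).trans h10
      have h14 := Nat.Prime.dvd_of_dvd_pow Nat.prime_two h13
      norm_num at h14
  have h6 : (normalizer ((P : Subgroup T) : Set T)).index ≤ 10 := Nat.le_of_dvd (by norm_num) h4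
  have h7 : (normalizer ((P : Subgroup T) : Set T)).index = 10 := by
    interval_cases h : (normalizer ((P : Subgroup T) : Set T)).index <;> omega
  rw [h7] at h1
  have h8 : H.relIndex (normalizer ((P : Subgroup T) : Set T)) = 1 := by omega
  exact le_antisymm hn (relIndex_eq_one.1 h8)

/-- the subgroups of index ten are conjugate -/
theorem conj_of_index_ten {T : Type*} [Group T] [Finite T] [IsSimpleGroup T] (h3 : 3 ∣ Nat.card T)
    (hyp : ∀ H : Subgroup T, H.index = 10 → ∃ P : Sylow 3 T, H ≤ normalizer ((P : Subgroup T) : Set T))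
    {H₁ H₂ : Subgroup T} (h1 : H₁.index = 10) (h2 : H₂.index = 10) : ∃ t : T, ∀ s, s ∈ H₂ ↔ t⁻¹ * s * t ∈ H₁ := by
  have hp : Fact (Nat.Prime 3) := ⟨by norm_num⟩
  obtain ⟨P₁, hP₁⟩ := hyp H₁ h1
  obtain ⟨P₂, hP₂⟩ := hyp H₂ h2
  have e1 := eq_normalizer h3 h1 P₁ hP₁
  have e2 := eq_normalizer h3 h2 P₂ hP₂
  obtain ⟨t, ht⟩ := MulAction.exists_smul_eq T P₁ P₂
  refine ⟨t, fun s => ?_⟩
  have ht' : ∀ x, x ∈ (P₂ : Subgroup T) ↔ t⁻¹ * x * t ∈ (P₁ : Subgroup T) := by
    intro x
    rw [← ht, Sylow.smul_def]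
    constructor
    · rintro ⟨y, hy, rfl⟩
      show t⁻¹ * (t * y * t⁻¹) * t ∈ _
      have : t⁻¹ * (t * y * t⁻¹) * t = y := by group
      rw [this]; exact hy
    · intro hx
      refine ⟨_, hx, ?_⟩
      show t * (t⁻¹ * x * t) * t⁻¹ = x
      group
  rw [e1, e2, mem_normalizer_iff, mem_normalizer_iff]
  constructor
  · intro h y
    have h5 := h (t * y * t⁻¹)
    rw [ht', ht'] at h5
    have e3 : t⁻¹ * (t * y * t⁻¹) * t = y := by group
    have e4 : t⁻¹ * (s * (t * y * t⁻¹) * s⁻¹) * t = t⁻¹ * s * t * y * (t⁻¹ * s * t)⁻¹ := by group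
    rw [e3, e4] at h5
    exact h5
  · intro h y
    rw [ht', ht']
    have h5 := h (t⁻¹ * y * t)
    have e4 : t⁻¹ * s * t * (t⁻¹ * y * t) * (t⁻¹ * s * t)⁻¹ = t⁻¹ * (s * y * s⁻¹) * t := by group
    rw [e4] at h5
    exact h5

/-- from a normal Sylow `3`-subgroup of `H` -/
theorem exists_norm {T : Type*} [Group T] [Finite T] {H : Subgroup T} (hH : ¬ 3 ∣ H.index)
    (h1 : ∀ P : Sylow 3 H, (P : Subgroup H).Normal) : ∃ P : Sylow 3 T, H ≤ normalizer ((P : Subgroup T) : Set T) := by
  have hp : Fact (Nat.Prime 3) := ⟨by norm_num⟩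
  obtain ⟨P⟩ : Nonempty (Sylow 3 H) := inferInstance
  have hcard : Nat.card ((P : Subgroup H).map H.subtype : Subgroup T) = 3 ^ (Nat.card T).factorization 3 := by
    have h2 : Nat.card ((P : Subgroup H).map H.subtype : Subgroup T) = Nat.card P :=
      (Nat.card_congr ((P : Subgroup H).equivMapOfInjective H.subtype H.subtype_injective).toEquiv).symm
    rw [h2, P.card_eq_multiplicity, ← H.index_mul_card, Nat.factorization_mul H.index_ne_zero_of_finite Nat.card_pos.ne',
      Finsupp.add_apply, Nat.factorization_eq_zero_of_not_dvd hH, zero_add]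
  refine ⟨Sylow.ofCard _ hcard, ?_⟩
  intro h hh
  rw [mem_normalizer_iff]
  have key : ∀ h : H, ∀ x : T, x ∈ (P : Subgroup H).map H.subtype → (h : T) * x * (h : T)⁻¹ ∈ (P : Subgroup H).map H.subtype := by
    rintro h _ ⟨y, hy, rfl⟩
    exact ⟨h * y * h⁻¹, (h1 P).conj_mem y hy h, rfl⟩
  intro x
  constructor
  · intro hx
    exact key ⟨h, hh⟩ x hx
  · intro hx
    have h3 := key ⟨h, hh⟩⁻¹ _ hx
    have e : ((⟨h, hh⟩⁻¹ : H) : T) * (h * x * h⁻¹) * ((⟨h, hh⟩⁻¹ : H) : T)⁻¹ = x := by
      show h⁻¹ * (h * x * h⁻¹) * h⁻¹⁻¹ = x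
      group
    rw [e] at h3
    exact h3

theorem norm_six {H : Type*} [Group H] [Finite H] (hH : Nat.card H = 6) (P : Sylow 3 H) : (P : Subgroup H).Normal := by
  have hp : Fact (Nat.Prime 3) := ⟨by norm_num⟩
  have h1 : Nat.card P = 3 := by
    rw [P.card_eq_multiplicity, hH]
    have : (6 : ℕ).factorization 3 = 1 := by
      rw [show (6 : ℕ) = 3 * 2 from rfl, Nat.factorization_mul (by norm_num) (by norm_num), Finsupp.add_apply,
        Nat.Prime.factorization_self (by norm_num), Nat.factorization_eq_zero_of_not_dvd (by norm_num)]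
    rw [this]; norm_num
  have h2 := (P : Subgroup H).index_mul_card
  rw [hH] at h2
  change (P : Subgroup H).index * Nat.card P = 6 at h2
  rw [h1] at h2
  exact normal_of_index_eq_two (by omega)

theorem norm_thirtysix {H : Type*} [Group H] [Finite H] (hH : Nat.card H = 36)
    (hc : ∀ c : H, orderOf c = 3 → Nat.card (centralizer ({c} : Set H)) ≤ 18) (P : Sylow 3 H) : (P : Subgroup H).Normal := by
  have hp : Fact (Nat.Prime 3) := ⟨by norm_num⟩
  have hcP : ∀ P : Sylow 3 H, Nat.card P = 3 ^ 2 := by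
    intro P
    rw [P.card_eq_multiplicity, hH]
    have : (36 : ℕ).factorization 3 = 2 := by
      rw [show (36 : ℕ) = 3 ^ 2 * 4 from rfl, Nat.factorization_mul (by norm_num) (by norm_num), Finsupp.add_apply,
        Nat.Prime.factorization_pow (by norm_num), Finsupp.single_eq_same, Nat.factorization_eq_zero_of_not_dvd (by norm_num)]
    rw [this]
  have hsub : Subsingleton (Sylow 3 H) := by
    constructor
    intro P₁ P₂
    by_contra hne
    have hinf : ¬ Nat.card ((P₁ : Subgroup H) ⊓ P₂ : Subgroup H) = 1 := by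
      intro h1
      have hbot : ((P₁ : Subgroup H) ⊓ P₂ : Subgroup H) = ⊥ := Subgroup.eq_bot_of_card_eq _ h1
      have hinj : Function.Injective (fun x : P₁ × P₂ => (x.1 : H) * (x.2 : H)) := by
        rintro ⟨a, b⟩ ⟨c, d⟩ h2
        have h3 : (a : H) * b = c * d := h2
        have h4 : (c : H)⁻¹ * a = d * (b : H)⁻¹ := by
          rw [inv_mul_eq_iff_eq_mul, ← mul_assoc, ← h3, mul_assoc, mul_inv_cancel, mul_one]
        have h5 : (c : H)⁻¹ * a ∈ ((P₁ : Subgroup H) ⊓ P₂ : Subgroup H) := by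
          refine ⟨(P₁ : Subgroup H).mul_mem ((P₁ : Subgroup H).inv_mem c.2) a.2, ?_⟩
          rw [h4]
          exact (P₂ : Subgroup H).mul_mem d.2 ((P₂ : Subgroup H).inv_mem b.2)
        rw [hbot, mem_bot] at h5
        rw [h5] at h4
        rw [inv_mul_eq_one] at h5
        rw [eq_comm, mul_inv_eq_one] at h4
        exact Prod.ext (Subtype.ext h5.symm) (Subtype.ext h4.symm)
      have h2 := Nat.card_le_card_of_injective _ hinj
      rw [Nat.card_prod, hcP, hcP, hH] at h2
      norm_num at h2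
    have h3 : 3 ∣ Nat.card ((P₁ : Subgroup H) ⊓ P₂ : Subgroup H) := by
      have h4 : Nat.card ((P₁ : Subgroup H) ⊓ P₂ : Subgroup H) ∣ 3 ^ 2 := by
        rw [← hcP P₁]
        exact card_dvd_of_le inf_le_left
      obtain ⟨k, -, hk⟩ := (Nat.dvd_prime_pow (by norm_num)).1 h4
      rw [hk] at hinf ⊢
      rcases Nat.eq_zero_or_pos k with h5 | h5
      · rw [h5] at hinf; exact absurd (pow_zero 3) hinf
      · exact dvd_pow_self 3 h5.ne'
    obtain ⟨c, hc3⟩ := exists_prime_orderOf_dvd_card' 3 h3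
    have hco : orderOf (c : H) = 3 := by rw [Subgroup.orderOf_coe, hc3]
    have hCc := hc _ hco
    have hab : ∀ P : Sylow 3 H, (c : H) ∈ (P : Subgroup H) → (P : Subgroup H) ≤ centralizer ({(c : H)} : Set H) := by
      intro P hcP' x hx
      have h5 := IsPGroup.isMulCommutative_of_card_eq_prime_sq (hcP P)
      rw [mem_centralizer_singleton_iff]
      exact Subtype.ext_iff.1 (h5.is_comm.comm (⟨x, hx⟩ : P) ⟨c, hcP'⟩)
    have h1C := hab P₁ (mem_inf.1 c.2).1
    have h2C := hab P₂ (mem_inf.1 c.2).2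
    have h6 : (P₁ : Subgroup H).relIndex (centralizer ({(c : H)} : Set H)) ≤ 2 := by
      have h7 := Cfsg.Agent.Lib.HallHigman.card_mul_relIndex' h1C
      rw [hcP P₁] at h7
      omega
    have h8 : ((P₁ : Subgroup H).subgroupOf (centralizer ({(c : H)} : Set H))).Normal := by
      have h9 : ((P₁ : Subgroup H).subgroupOf (centralizer ({(c : H)} : Set H))).index ≤ 2 := h6
      have h10 : ((P₁ : Subgroup H).subgroupOf (centralizer ({(c : H)} : Set H))).index ≠ 0 := index_ne_zero_of_finite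
      rcases (by omega : ((P₁ : Subgroup H).subgroupOf (centralizer ({(c : H)} : Set H))).index = 1 ∨
        ((P₁ : Subgroup H).subgroupOf (centralizer ({(c : H)} : Set H))).index = 2) with h11 | h11
      · rw [index_eq_one.1 h11]; infer_instance
      · exact normal_of_index_eq_two h11
    have h9 : (P₂ : Subgroup H) ≤ normalizer ((P₁ : Subgroup H) : Set H) := by
      intro x hx
      rw [mem_normalizer_iff]
      have hk : ∀ x ∈ centralizer ({(c : H)} : Set H), ∀ y ∈ (P₁ : Subgroup H), x * y * x⁻¹ ∈ (P₁ : Subgroup H) := by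
        intro x hx y hy
        have := h8.conj_mem ⟨y, h1C hy⟩ (mem_subgroupOf.2 hy) ⟨x, hx⟩
        exact mem_subgroupOf.1 this
      intro y
      constructor
      · exact fun hy => hk x (h2C hx) y hy
      · intro hy
        have := hk x⁻¹ (inv_mem (h2C hx)) _ hy
        have e : x⁻¹ * (x * y * x⁻¹) * x⁻¹⁻¹ = y := by group
        rw [e] at this
        exact this
    have h10 : (P₂ : Subgroup H) ⊓ normalizer ((P₁ : Subgroup H) : Set H) = (P₂ : Subgroup H) ⊓ P₁ :=
      P₂.2.inf_normalizer_sylow P₁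
    rw [inf_eq_left.2 h9] at h10
    have h11 : (P₂ : Subgroup H) ≤ P₁ := by rw [h10]; exact inf_le_right
    exact hne (Sylow.ext (Subgroup.eq_of_le_of_card_ge h11 (by
      change Nat.card P₁ ≤ Nat.card P₂
      rw [hcP, hcP]))).symm
  exact Sylow.normal_of_subsingleton P

/-- centralizers of elements of order three in `A₆` -/
theorem card_cent_six (c : alternatingGroup (Fin 6)) (hc : orderOf c = 3) :
    Nat.card (centralizer ({c} : Set (alternatingGroup (Fin 6)))) ≤ 18 := by
  have hp : Fact (Nat.Prime 3) := ⟨by norm_num⟩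
  have hc' : orderOf (c : Perm (Fin 6)) = 3 := by rw [Subgroup.orderOf_coe, hc]
  have h1 : Nat.card (centralizer ({c} : Set (alternatingGroup (Fin 6)))) ≤
      Nat.card (centralizer ({(c : Perm (Fin 6))} : Set (Perm (Fin 6)))) := by
    refine Nat.card_le_card_of_injective (fun x => ⟨((x : alternatingGroup (Fin 6)) : Perm (Fin 6)), ?_⟩) ?_
    · rw [mem_centralizer_singleton_iff]
      exact Subtype.ext_iff.1 (mem_centralizer_singleton_iff.1 x.2)
    · intro x y hxy
      have h := congrArg Subtype.val hxy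
      exact Subtype.ext (Subtype.ext h)
  refine h1.trans ?_
  have h2 := cycleType_of_pow_prime_eq_one (σ := (c : Perm (Fin 6))) (p := 3) (by rw [← hc']; exact pow_orderOf_eq_one _)
  set k := Multiset.card (cycleType (c : Perm (Fin 6))) with hk
  have h3 : (cycleType (c : Perm (Fin 6))).sum ≤ 6 := by
    rw [sum_cycleType]
    exact (Finset.card_le_univ _).trans (by simp)
  rw [h2, Multiset.sum_replicate, smul_eq_mul] at h3
  have h4 : k ≠ 0 := by
    intro h5
    rw [h5, Multiset.replicate_zero, cycleType_eq_zero] at h2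
    rw [h2, orderOf_one] at hc'
    norm_num at hc'
  have h5 : Nat.card (centralizer ({(c : Perm (Fin 6))} : Set (Perm (Fin 6)))) = _ := nat_card_centralizer (c : Perm (Fin 6))
  rw [h5, h2]
  have h6 : k = 1 ∨ k = 2 := by omega
  rcases h6 with h6 | h6 <;> rw [h6] <;> decide

theorem alt_five_index_ten {H₁ H₂ : Subgroup (alternatingGroup (Fin 5))} (h1 : H₁.index = 10) (h2 : H₂.index = 10) :
    ∃ t, ∀ s, s ∈ H₂ ↔ t⁻¹ * s * t ∈ H₁ := by
  have hs := alternatingGroup.isSimpleGroup (α := Fin 5) (by simp)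
  have hc := Cfsg.Agent.SmallSimple.PSLFacts.card_alt_five
  refine conj_of_index_ten (by rw [hc]; norm_num) (fun H hH => exists_norm (by rw [hH]; norm_num) (norm_six ?_)) h1 h2
  have h3 := H.index_mul_card
  rw [hc, hH] at h3
  omega

theorem alt_six_index_ten {H₁ H₂ : Subgroup (alternatingGroup (Fin 6))} (h1 : H₁.index = 10) (h2 : H₂.index = 10) :
    ∃ t, ∀ s, s ∈ H₂ ↔ t⁻¹ * s * t ∈ H₁ := by
  have hs := alternatingGroup.isSimpleGroup (α := Fin 6) (by simp)
  have hc := Cfsg.Agent.SmallSimple.PSLFacts.card_alt_six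
  refine conj_of_index_ten (by rw [hc]; norm_num) (fun H hH => exists_norm (by rw [hH]; norm_num) (norm_thirtysix ?_ ?_)) h1 h2
  · have h3 := H.index_mul_card
    rw [hc, hH] at h3
    omega
  · intro c hc3
    refine le_trans ?_ (card_cent_six c (by rw [Subgroup.orderOf_coe, hc3]))
    refine Nat.card_le_card_of_injective (fun x => ⟨((x : H) : alternatingGroup (Fin 6)), ?_⟩) ?_
    · rw [mem_centralizer_singleton_iff]
      exact Subtype.ext_iff.1 (mem_centralizer_singleton_iff.1 x.2)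
    · intro x y hxy
      have h := congrArg Subtype.val hxy
      exact Subtype.ext (Subtype.ext h)

/-- transitive groups with corresponding point stabilisers are conjugate -/
theorem conj_of_stab {X₁ X₂ : Subgroup (Perm (Fin 10))} (h1 : MulAction.IsPretransitive X₁ (Fin 10))
    (h2 : MulAction.IsPretransitive X₂ (Fin 10)) (φ : X₁ ≃* X₂) (a b : Fin 10)
    (hst : ∀ x : X₁, (x : Perm (Fin 10)) a = a ↔ ((φ x : X₂) : Perm (Fin 10)) b = b) :
    ∃ f : Perm (Fin 10), X₂ = X₁.map (MulAut.conj f).toMonoidHom := by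
  have hex : ∀ i : Fin 10, ∃ x : X₁, (x : Perm (Fin 10)) a = i := fun i => h1.exists_smul_eq a i
  choose x hx using hex
  let g : Fin 10 → Fin 10 := fun i => ((φ (x i) : X₂) : Perm (Fin 10)) b
  have key : ∀ y z : X₁, (y : Perm (Fin 10)) a = (z : Perm (Fin 10)) a ↔
      ((φ y : X₂) : Perm (Fin 10)) b = ((φ z : X₂) : Perm (Fin 10)) b := by
    intro y z
    have h3 := hst (z⁻¹ * y)
    have e1 : ((z⁻¹ * y : X₁) : Perm (Fin 10)) a = a ↔ (y : Perm (Fin 10)) a = (z : Perm (Fin 10)) a := by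
      show (z : Perm (Fin 10))⁻¹ ((y : Perm (Fin 10)) a) = a ↔ _
      rw [Perm.inv_eq_iff_eq]
    have e2 : ((φ (z⁻¹ * y) : X₂) : Perm (Fin 10)) b = b ↔
        ((φ y : X₂) : Perm (Fin 10)) b = ((φ z : X₂) : Perm (Fin 10)) b := by
      rw [map_mul, map_inv]
      show ((φ z : X₂) : Perm (Fin 10))⁻¹ (((φ y : X₂) : Perm (Fin 10)) b) = b ↔ _
      rw [Perm.inv_eq_iff_eq]
    rw [← e1, ← e2]
    exact h3
  have hgi : Function.Injective g := by
    intro i j hij
    have h3 := (key (x i) (x j)).2 hij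
    rw [hx, hx] at h3
    exact h3
  let f : Perm (Fin 10) := Equiv.ofBijective g (Finite.injective_iff_bijective.1 hgi)
  have hf : ∀ i, f i = ((φ (x i) : X₂) : Perm (Fin 10)) b := fun i => rfl
  have heq : ∀ y : X₁, ((φ y : X₂) : Perm (Fin 10)) * f = f * y := by
    intro y
    ext i
    congr 1
    show ((φ y : X₂) : Perm (Fin 10)) (f i) = f ((y : Perm (Fin 10)) i)
    rw [hf, hf]
    have h3 := (key (y * x i) (x ((y : Perm (Fin 10)) i))).1 (by
      rw [hx]
      show (y : Perm (Fin 10)) ((x i : Perm (Fin 10)) a) = _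
      rw [hx])
    rw [map_mul] at h3
    exact h3
  refine ⟨f, ?_⟩
  ext z
  constructor
  · intro hz
    refine ⟨(φ.symm ⟨z, hz⟩ : X₁), (φ.symm ⟨z, hz⟩).2, ?_⟩
    show f * (φ.symm ⟨z, hz⟩ : X₁) * f⁻¹ = z
    rw [← heq, φ.apply_symm_apply]
    group
  · rintro ⟨y, hy, rfl⟩
    show f * y * f⁻¹ ∈ X₂
    rw [show f * y = ((φ ⟨y, hy⟩ : X₂) : Perm (Fin 10)) * f from (heq ⟨y, hy⟩).symm, mul_inv_cancel_right]
    exact (φ ⟨y, hy⟩).2

/-- the number of conjugates -/
theorem ncard_class_le {G : Type*} [Group G] [Finite G] (X : Subgroup G) :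
    {Y : Subgroup G | ∃ f : G, Y = X.map (MulAut.conj f).toMonoidHom}.ncard ≤ X.index := by
  have h1 : {Y : Subgroup G | ∃ f : G, Y = X.map (MulAut.conj f).toMonoidHom} ⊆
      (fun c : G ⧸ X => X.map (MulAut.conj c.out).toMonoidHom) '' Set.univ := by
    rintro _ ⟨f, rfl⟩
    refine ⟨(f : G ⧸ X), Set.mem_univ _, ?_⟩
    obtain ⟨y, hy⟩ := QuotientGroup.mk_out_eq_mul X f
    show X.map (MulAut.conj (f : G ⧸ X).out).toMonoidHom = _
    rw [hy]
    have key : ∀ (f : G) (y : X), X.map (MulAut.conj (f * y)).toMonoidHom ≤ X.map (MulAut.conj f).toMonoidHom := by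
      rintro f y _ ⟨z, hz, rfl⟩
      refine ⟨y * z * y⁻¹, X.mul_mem (X.mul_mem y.2 hz) (X.inv_mem y.2), ?_⟩
      show f * (y * z * (y : G)⁻¹) * f⁻¹ = f * y * z * (f * y)⁻¹
      group
    apply le_antisymm (key f y)
    have h2 := key (f * y) y⁻¹
    rw [show f * (y : G) * ((y⁻¹ : X) : G) = f by simp] at h2
    exact h2
  refine (Set.ncard_le_ncard h1 (Set.toFinite _)).trans ((Set.ncard_image_le Set.finite_univ).trans ?_)
  rw [Set.ncard_univ]
  exact le_rfl

theorem ncard_type_le {T : Type*} [Group T] [Finite T]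
    (hT : ∀ {H₁ H₂ : Subgroup T}, H₁.index = 10 → H₂.index = 10 → ∃ t, ∀ s, s ∈ H₂ ↔ t⁻¹ * s * t ∈ H₁) :
    {X : Subgroup (Perm (Fin 10)) | MulAction.IsPretransitive X (Fin 10) ∧ Nonempty (X ≃* T)}.ncard ≤
      3628800 / Nat.card T := by
  rcases Set.eq_empty_or_nonempty {X : Subgroup (Perm (Fin 10)) | MulAction.IsPretransitive X (Fin 10) ∧ Nonempty (X ≃* T)}
    with h0 | ⟨X₁, h1, ⟨e1⟩⟩
  · rw [h0, Set.ncard_empty]
    exact Nat.zero_le _
  have hidx : ∀ (X : Subgroup (Perm (Fin 10))) (e : X ≃* T), MulAction.IsPretransitive X (Fin 10) →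
      ((MulAction.stabilizer X (0 : Fin 10)).map e.toMonoidHom).index = 10 := by
    intro X e hX
    have h3 := MulAction.index_stabilizer_of_transitive X (0 : Fin 10)
    rw [Nat.card_fin] at h3
    exact (Subgroup.index_map_equiv _ e).trans h3
  have hsub : {X : Subgroup (Perm (Fin 10)) | MulAction.IsPretransitive X (Fin 10) ∧ Nonempty (X ≃* T)} ⊆
      {Y | ∃ f : Perm (Fin 10), Y = X₁.map (MulAut.conj f).toMonoidHom} := by
    rintro X₂ ⟨h2, ⟨e2⟩⟩
    obtain ⟨t, ht⟩ := hT (hidx X₁ e1 h1) (hidx X₂ e2 h2)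
    refine conj_of_stab h1 h2 (e1.trans ((MulAut.conj t).trans e2.symm)) 0 0 ?_
    intro x
    have hm : ∀ (X : Subgroup (Perm (Fin 10))) (e : X ≃* T) (x : X),
        e x ∈ (MulAction.stabilizer X (0 : Fin 10)).map e.toMonoidHom ↔ (x : Perm (Fin 10)) 0 = 0 := by
      intro X e x
      constructor
      · rintro ⟨y, hy, h3⟩
        rw [← e.injective h3]
        exact hy
      · intro h3
        exact ⟨x, h3, rfl⟩
    rw [← hm X₁ e1 x, ← hm X₂ e2, ht]
    have e3 : t⁻¹ * e2 ((e1.trans ((MulAut.conj t).trans e2.symm)) x) * t = e1 x := by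
      show t⁻¹ * e2 (e2.symm (t * e1 x * t⁻¹)) * t = e1 x
      rw [e2.apply_symm_apply]
      group
    rw [e3]
  refine (Set.ncard_le_ncard hsub (Set.toFinite _)).trans ((ncard_class_le X₁).trans ?_)
  have h3 := X₁.index_mul_card
  rw [Nat.card_perm, Nat.card_fin, Nat.card_congr e1.toEquiv] at h3
  rw [Nat.le_div_iff_mul_le Nat.card_pos, h3]
  exact (by decide : Nat.factorial 10 ≤ 3628800)

open scoped Pointwise

theorem case_orbit {G L : Subgroup (Perm (Fin 10))} (hG : alternatingGroup (Fin 10) ≤ G) (hL : MaxNot G L)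
    (ht : ¬ MulAction.IsPretransitive L (Fin 10)) :
    ∃ Δ : Set (Fin 10), L = G ⊓ MulAction.stabilizer (Perm (Fin 10)) Δ := by
  obtain ⟨i, j, hij⟩ : ∃ i j : Fin 10, ∀ g ∈ L, g i ≠ j := by
    by_contra hcon
    push Not at hcon
    apply ht
    refine ⟨fun i j => ?_⟩
    obtain ⟨g, hg, h1⟩ := hcon i j
    exact ⟨⟨g, hg⟩, h1⟩
  refine ⟨{k | ∃ g ∈ L, g i = k}, hL.eq_inf hG ?_ ?_⟩
  · intro g hg
    rw [MulAction.mem_stabilizer_set]
    intro b
    constructor
    · rintro ⟨h, hh, h1⟩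
      refine ⟨g⁻¹ * h, L.mul_mem (L.inv_mem hg) hh, ?_⟩
      rw [Perm.mul_apply, h1, Perm.smul_def]
      exact g.symm_apply_apply b
    · rintro ⟨h, hh, rfl⟩
      exact ⟨g * h, L.mul_mem hg hh, rfl⟩
  · intro hle
    have h1 := alternatingGroup.isPretransitive_of_three_le_card (Fin 10) (by simp)
    obtain ⟨a, ha⟩ := h1.exists_smul_eq i j
    have h2 := MulAction.mem_stabilizer_set.1 (hle a.2) i
    obtain ⟨g, hg, h3⟩ := h2.2 ⟨1, one_mem _, rfl⟩
    exact hij g hg (h3.trans ha)

theorem case_five {G L : Subgroup (Perm (Fin 10))} (hG : alternatingGroup (Fin 10) ≤ G) (hL : MaxNot G L)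
    {B : Set (Fin 10)} (hB : MulAction.IsBlock L B) (h5 : B.ncard = 5) :
    L = G ⊓ MulAction.stabilizer (Perm (Fin 10)) ({B, Bᶜ} : Set (Set (Fin 10))) := by
  have hBc : Bᶜ.ncard = 5 := by
    have := Set.ncard_add_ncard_compl B
    rw [h5, Nat.card_fin] at this
    omega
  refine hL.eq_inf hG ?_ ?_
  · intro g hg
    rw [MulAction.mem_stabilizer_iff, Set.smul_set_insert, Set.smul_set_singleton, Set.smul_set_compl]
    rcases MulAction.isBlock_iff_smul_eq_or_disjoint.1 hB ⟨g, hg⟩ with h1 | h1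
    · have h2 : g • B = B := h1
      rw [h2]
    · have h2 : g • B = Bᶜ := by
        refine Set.eq_of_subset_of_ncard_le (Set.disjoint_left.1 h1) ?_
        rw [hBc, Set.ncard_smul_set, h5]
      rw [h2, compl_compl, Set.pair_comm]
  · intro hle
    have h1 := alternatingGroup.isPreprimitive_of_three_le_card (Fin 10) (by simp)
    have h2 : MulAction.IsBlock (alternatingGroup (Fin 10)) B := by
      rw [MulAction.isBlock_iff_smul_eq_or_disjoint]
      intro g
      have h3 := MulAction.mem_stabilizer_iff.1 (hle g.2)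
      have h4 : (g : Perm (Fin 10)) • B ∈ ({B, Bᶜ} : Set (Set (Fin 10))) := by
        rw [← h3]
        exact Set.smul_mem_smul_set (Set.mem_insert _ _)
      rcases h4 with h4 | h4
      · exact Or.inl h4
      · right
        have h5 : g • B = Bᶜ := h4
        rw [h5]
        exact disjoint_compl_left
    rcases h1.isTrivialBlock_of_isBlock h2 with h3 | h3
    · have := Set.ncard_le_one_iff_subsingleton.2 h3
      omega
    · rw [h3, Set.ncard_univ, Nat.card_fin] at h5
      omega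

theorem case_two {G L : Subgroup (Perm (Fin 10))} (hG : alternatingGroup (Fin 10) ≤ G) (hL : MaxNot G L)
    (ht : MulAction.IsPretransitive L (Fin 10)) {B : Set (Fin 10)} (hB : MulAction.IsBlock L B) (h2 : B.ncard = 2) :
    ∃ τ : Perm (Fin 10), τ.cycleType = Multiset.replicate 5 2 ∧ L = G ⊓ centralizer ({τ} : Set (Perm (Fin 10))) := by
  obtain ⟨i₀, j₀, hne, rfl⟩ := Set.ncard_eq_two.1 h2
  have hex : ∀ i : Fin 10, ∃ g : L, (g : Perm (Fin 10)) i₀ = i := fun i => ht.exists_smul_eq i₀ i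
  choose g hg using hex
  -- the translates
  have hsm : ∀ x : L, x • ({i₀, j₀} : Set (Fin 10)) = {(x : Perm (Fin 10)) i₀, (x : Perm (Fin 10)) j₀} := by
    intro x
    rw [Set.smul_set_insert, Set.smul_set_singleton]
    rfl
  have htr : ∀ x y : L, (∃ k, k ∈ ({(x : Perm (Fin 10)) i₀, (x : Perm (Fin 10)) j₀} : Set (Fin 10)) ∧
      k ∈ ({(y : Perm (Fin 10)) i₀, (y : Perm (Fin 10)) j₀} : Set (Fin 10))) →
      ({(x : Perm (Fin 10)) i₀, (x : Perm (Fin 10)) j₀} : Set (Fin 10)) = {(y : Perm (Fin 10)) i₀, (y : Perm (Fin 10)) j₀} := by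
    rintro x y ⟨k, h3, h4⟩
    by_contra hcon
    rw [← hsm, ← hsm] at hcon
    have h5 := hB hcon
    rw [hsm, hsm] at h5
    exact Set.disjoint_left.1 h5 h3 h4
  have hij : ∀ x : L, (x : Perm (Fin 10)) i₀ ≠ (x : Perm (Fin 10)) j₀ := fun x e => hne ((x : Perm (Fin 10)).injective e)
  let τ : Fin 10 → Fin 10 := fun i => (g i : Perm (Fin 10)) j₀
  have h1 : ∀ x : L, (x : Perm (Fin 10)) j₀ = τ ((x : Perm (Fin 10)) i₀) := by
    intro x
    have h3 := htr x (g ((x : Perm (Fin 10)) i₀)) ⟨(x : Perm (Fin 10)) i₀, Set.mem_insert _ _, by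
      rw [hg]; exact Set.mem_insert _ _⟩
    have h4 : (x : Perm (Fin 10)) j₀ ∈ ({(g ((x : Perm (Fin 10)) i₀) : Perm (Fin 10)) i₀,
      (g ((x : Perm (Fin 10)) i₀) : Perm (Fin 10)) j₀} : Set (Fin 10)) := by
      rw [← h3]; exact Set.mem_insert_of_mem _ rfl
    rcases h4 with h4 | h4
    · rw [hg] at h4
      exact absurd h4.symm (hij x)
    · exact h4
  have h1' : ∀ x : L, (x : Perm (Fin 10)) i₀ = τ ((x : Perm (Fin 10)) j₀) := by
    intro x
    have h3 := htr x (g ((x : Perm (Fin 10)) j₀)) ⟨(x : Perm (Fin 10)) j₀, Set.mem_insert_of_mem _ rfl, by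
      rw [hg]; exact Set.mem_insert _ _⟩
    have h4 : (x : Perm (Fin 10)) i₀ ∈ ({(g ((x : Perm (Fin 10)) j₀) : Perm (Fin 10)) i₀,
      (g ((x : Perm (Fin 10)) j₀) : Perm (Fin 10)) j₀} : Set (Fin 10)) := by
      rw [← h3]; exact Set.mem_insert _ _
    rcases h4 with h4 | h4
    · rw [hg] at h4
      exact absurd h4 (hij x)
    · exact h4
  have hinv : Function.Involutive τ := by
    intro i
    have h3 := h1' (g i)
    rw [hg] at h3
    exact h3.symm
  have hfix : ∀ i, τ i ≠ i := by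
    intro i h3
    have h4 := hij (g i)
    rw [hg] at h4
    exact h4 h3.symm
  let T : Perm (Fin 10) := Function.Involutive.toPerm τ hinv
  have hτ : ∀ i, T i = τ i := fun i => rfl
  refine ⟨T, ?_, hL.eq_inf hG ?_ ?_⟩
  · have hp : Fact (Nat.Prime 2) := ⟨Nat.prime_two⟩
    have h3 : T ^ 2 = 1 := by
      ext i
      rw [pow_two, Perm.mul_apply, hτ, hτ, hinv]
      rfl
    have h4 := cycleType_of_pow_prime_eq_one h3
    have h5 : T.support = Finset.univ := by
      ext i
      rw [mem_support, hτ]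
      simp only [Finset.mem_univ, iff_true]
      exact hfix i
    have h6 := sum_cycleType T
    rw [h5, Finset.card_univ, Fintype.card_fin, h4, Multiset.sum_replicate, smul_eq_mul] at h6
    rw [h4]
    congr 1
    omega
  · intro x hx
    rw [mem_centralizer_singleton_iff]
    ext i
    congr 1
    change x (τ i) = τ (x i)
    have h3 := h1 (⟨x, hx⟩ * g i)
    have h4 : ((⟨x, hx⟩ * g i : L) : Perm (Fin 10)) i₀ = x i := by
      show x ((g i : Perm (Fin 10)) i₀) = x i
      rw [hg]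
    rw [h4] at h3
    exact h3
  · intro hle
    have h3 : T = 1 := by
      apply Cfsg.Agent.StandardComponent.AltAut.eq_one_of_centralizes (m := 8) (by omega)
      intro x
      have h4 := mem_centralizer_singleton_iff.1 (hle x.2)
      rw [mul_inv_eq_iff_eq_mul]
      exact h4.symm
    have h4 := hfix 0
    rw [← hτ, h3] at h4
    exact h4 rfl

theorem case_prim (hBr : Br) {G L : Subgroup (Perm (Fin 10))} (hG : alternatingGroup (Fin 10) ≤ G) (hL : MaxNot G L)
    (hP : MulAction.IsPreprimitive L (Fin 10)) :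
    ∃ X : Subgroup (Perm (Fin 10)), MulAction.IsPretransitive X (Fin 10) ∧
      (Nonempty (X ≃* alternatingGroup (Fin 5)) ∨ Nonempty (X ≃* alternatingGroup (Fin 6))) ∧
      L = G ⊓ normalizer (X : Set (Perm (Fin 10))) := by
  obtain ⟨h1, h2⟩ := prim_socle hBr hP hL.nalt
  let e : gp 5 L ≃* ((gp 5 L).map L.subtype : Subgroup (Perm (Fin 10))) :=
    (gp 5 L).equivMapOfInjective L.subtype L.subtype_injective
  have he : ∀ x, ((e x : (gp 5 L).map L.subtype) : Perm (Fin 10)) = ((x : L) : Perm (Fin 10)) := fun x => rfl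
  have hX : MulAction.IsPretransitive ((gp 5 L).map L.subtype : Subgroup (Perm (Fin 10))) (Fin 10) := by
    refine ⟨fun i j => ?_⟩
    obtain ⟨x, hx⟩ := h1.exists_smul_eq i j
    exact ⟨e x, hx⟩
  have hXL : (gp 5 L).map L.subtype ≤ L := by
    rintro _ ⟨y, -, rfl⟩
    exact y.2
  refine ⟨(gp 5 L).map L.subtype, hX, ?_, hL.eq_inf hG ?_ ?_⟩
  · rcases h2 with ⟨⟨f⟩⟩ | ⟨⟨f⟩⟩
    · exact Or.inl ⟨e.symm.trans f⟩
    · exact Or.inr ⟨e.symm.trans f⟩
  · intro x hx
    rw [mem_normalizer_iff]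
    have key : ∀ x : L, ∀ y : Perm (Fin 10), y ∈ (gp 5 L).map L.subtype →
        (x : Perm (Fin 10)) * y * (x : Perm (Fin 10))⁻¹ ∈ (gp 5 L).map L.subtype := by
      rintro x _ ⟨y, hy, rfl⟩
      exact ⟨x * y * x⁻¹, (gp_normal 5 L).conj_mem y hy x, rfl⟩
    intro y
    constructor
    · intro hy
      exact key ⟨x, hx⟩ y hy
    · intro hy
      have h3 := key ⟨x, hx⟩⁻¹ _ hy
      have e1 : ((⟨x, hx⟩⁻¹ : L) : Perm (Fin 10)) * (x * y * x⁻¹) * ((⟨x, hx⟩⁻¹ : L) : Perm (Fin 10))⁻¹ = y := by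
        show x⁻¹ * (x * y * x⁻¹) * x⁻¹⁻¹ = y
        group
      rw [e1] at h3
      exact h3
  · intro hle
    have hXalt : (gp 5 L).map L.subtype ≤ alternatingGroup (Fin 10) := by
      rw [Subgroup.map_le_iff_le_comap, gp, closure_le]
      intro x hx
      have h3 : x ^ 5 = 1 := hx
      show L.subtype x ∈ alternatingGroup (Fin 10)
      rw [mem_alternatingGroup]
      have h4 : sign (L.subtype x) ^ 5 = 1 := by rw [← map_pow, ← map_pow, h3, map_one, map_one]
      rcases Int.units_eq_one_or (sign (L.subtype x)) with h5 | h5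
      · exact h5
      · rw [h5] at h4
        exact absurd h4 (by decide)
    have hs := alternatingGroup.isSimpleGroup (α := Fin 10) (by simp)
    have hnor : (((gp 5 L).map L.subtype).subgroupOf (alternatingGroup (Fin 10))).Normal := by
      constructor
      intro y hy x
      rw [mem_subgroupOf] at hy ⊢
      exact (mem_normalizer_iff.1 (hle x.2) _).1 hy
    rcases hnor.eq_bot_or_eq_top with h3 | h3
    · rw [subgroupOf_eq_bot, disjoint_iff, inf_eq_left.2 hXalt] at h3
      have h4 := ten_dvd_of_trans hX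
      rw [h3, Subgroup.card_bot] at h4
      norm_num at h4
    · rw [subgroupOf_eq_top] at h3
      exact hL.nalt (h3.trans hXL)

theorem ncard_maxNot_ten (hBr : Br) {G : Subgroup (Perm (Fin 10))} (hG : alternatingGroup (Fin 10) ≤ G) :
    {L : Subgroup (Perm (Fin 10)) | MaxNot G L}.ncard ≤ 2 ^ 17 := by
  classical
  have hcov : {L : Subgroup (Perm (Fin 10)) | MaxNot G L} ⊆
      ((fun Δ : Set (Fin 10) => G ⊓ MulAction.stabilizer (Perm (Fin 10)) Δ) '' Set.univ ∪
      (fun B : Set (Fin 10) => G ⊓ MulAction.stabilizer (Perm (Fin 10)) ({B, Bᶜ} : Set (Set (Fin 10)))) '' Set.univ ∪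
      (fun τ : Perm (Fin 10) => G ⊓ centralizer ({τ} : Set (Perm (Fin 10)))) '' {τ | τ.cycleType = Multiset.replicate 5 2} ∪
      (fun X : Subgroup (Perm (Fin 10)) => G ⊓ normalizer (X : Set (Perm (Fin 10)))) ''
        {X | MulAction.IsPretransitive X (Fin 10) ∧ Nonempty (X ≃* alternatingGroup (Fin 5))} ∪
      (fun X : Subgroup (Perm (Fin 10)) => G ⊓ normalizer (X : Set (Perm (Fin 10)))) ''
        {X | MulAction.IsPretransitive X (Fin 10) ∧ Nonempty (X ≃* alternatingGroup (Fin 6))}) := by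
    intro L hL
    by_cases ht : MulAction.IsPretransitive L (Fin 10)
    · by_cases hP : MulAction.IsPreprimitive L (Fin 10)
      · obtain ⟨X, h1, h2 | h2, h3⟩ := case_prim hBr hG hL hP
        · exact Or.inl (Or.inr ⟨X, ⟨h1, h2⟩, h3.symm⟩)
        · exact Or.inr ⟨X, ⟨h1, h2⟩, h3.symm⟩
      · obtain ⟨B, hB, hBt⟩ : ∃ B : Set (Fin 10), MulAction.IsBlock L B ∧ ¬ MulAction.IsTrivialBlock B := by
          by_contra hcon
          push Not at hcon
          exact hP { ht with isTrivialBlock_of_isBlock := fun {B} hB => hcon B hB }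
        have hBne : B.Nonempty := by
          by_contra h0
          rw [Set.not_nonempty_iff_eq_empty] at h0
          exact hBt (Or.inl (by rw [h0]; exact Set.subsingleton_empty))
        have h1 := hB.ncard_block_mul_ncard_orbit_eq hBne
        rw [Nat.card_fin] at h1
        have h2 : B.ncard ≠ 1 := fun h3 => hBt (Or.inl (Set.ncard_le_one_iff_subsingleton.1 h3.le))
        have h3 : B.ncard ≠ 10 := fun h3 => hBt (Or.inr (Set.eq_of_subset_of_ncard_le (Set.subset_univ B) (by
          rw [Set.ncard_univ, Nat.card_fin, h3])))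
        have h4 : B.ncard ∣ 10 := Dvd.intro _ h1
        have h5 : B.ncard ≤ 10 := Nat.le_of_dvd (by norm_num) h4
        have h6 : B.ncard = 2 ∨ B.ncard = 5 := by
          interval_cases h : B.ncard <;> omega
        rcases h6 with h6 | h6
        · obtain ⟨τ, h7, h8⟩ := case_two hG hL ht hB h6
          exact Or.inl (Or.inl (Or.inr ⟨τ, h7, h8.symm⟩))
        · exact Or.inl (Or.inl (Or.inl (Or.inr ⟨B, Set.mem_univ _, (case_five hG hL hB h6).symm⟩)))
    · obtain ⟨Δ, h1⟩ := case_orbit hG hL ht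
      exact Or.inl (Or.inl (Or.inl (Or.inl ⟨Δ, Set.mem_univ _, h1.symm⟩)))
  refine (Set.ncard_le_ncard hcov (Set.toFinite _)).trans ?_
  have hset : (Set.univ : Set (Set (Fin 10))).ncard = 1024 := by
    rw [Set.ncard_univ, Nat.card_eq_fintype_card, Fintype.card_set, Fintype.card_fin]
    norm_num
  have e1 : ((fun Δ : Set (Fin 10) => G ⊓ MulAction.stabilizer (Perm (Fin 10)) Δ) '' Set.univ).ncard ≤ 1024 := by
    rw [← hset]; exact Set.ncard_image_le Set.finite_univ
  have e2 : ((fun B : Set (Fin 10) => G ⊓ MulAction.stabilizer (Perm (Fin 10)) ({B, Bᶜ} : Set (Set (Fin 10)))) ''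
      Set.univ).ncard ≤ 1024 := by
    rw [← hset]; exact Set.ncard_image_le Set.finite_univ
  have e3 : ((fun τ : Perm (Fin 10) => G ⊓ centralizer ({τ} : Set (Perm (Fin 10)))) ''
      {τ | τ.cycleType = Multiset.replicate 5 2}).ncard ≤ 945 := by
    refine (Set.ncard_image_le (Set.toFinite _)).trans ?_
    have h1 := Equiv.Perm.card_of_cycleType (Fin 10) (Multiset.replicate 5 2)
    rw [if_pos ⟨by simp, fun a ha => (Multiset.eq_of_mem_replicate ha).ge⟩] at h1
    have h2 : ({τ : Perm (Fin 10) | τ.cycleType = Multiset.replicate 5 2} : Set (Perm (Fin 10))).ncard =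
        Finset.card {τ : Perm (Fin 10) | τ.cycleType = Multiset.replicate 5 2} := by
      rw [← Set.ncard_coe_finset, Finset.coe_filter_univ]
    rw [h2, h1, Fintype.card_fin, Multiset.sum_replicate, Multiset.prod_replicate, Multiset.toFinset_replicate,
      if_neg (by norm_num), Finset.prod_singleton, Multiset.count_replicate_self]
    norm_num [Nat.factorial]
  have e4 : ((fun X : Subgroup (Perm (Fin 10)) => G ⊓ normalizer (X : Set (Perm (Fin 10)))) ''
      {X | MulAction.IsPretransitive X (Fin 10) ∧ Nonempty (X ≃* alternatingGroup (Fin 5))}).ncard ≤ 60480 := by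
    refine (Set.ncard_image_le (Set.toFinite _)).trans ((ncard_type_le alt_five_index_ten).trans ?_)
    rw [Cfsg.Agent.SmallSimple.PSLFacts.card_alt_five]
  have e5 : ((fun X : Subgroup (Perm (Fin 10)) => G ⊓ normalizer (X : Set (Perm (Fin 10)))) ''
      {X | MulAction.IsPretransitive X (Fin 10) ∧ Nonempty (X ≃* alternatingGroup (Fin 6))}).ncard ≤ 10080 := by
    refine (Set.ncard_image_le (Set.toFinite _)).trans ((ncard_type_le alt_six_index_ten).trans ?_)
    rw [Cfsg.Agent.SmallSimple.PSLFacts.card_alt_six]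
  refine (Set.ncard_union_le _ _).trans ?_
  refine (Nat.add_le_add ((Set.ncard_union_le _ _).trans (Nat.add_le_add ((Set.ncard_union_le _ _).trans
    (Nat.add_le_add ((Set.ncard_union_le _ _).trans (Nat.add_le_add e1 e2)) e3)) e4)) e5).trans ?_
  norm_num

/-- **`soc(A) = A₁₀`** -/
theorem index_le_of_socle_ten (hBr : Br) {Q : Type*} [Group Q] [Finite Q] {A N : Subgroup Q} {Γ : Subgroup (MulAut Q)}
    (h : EPT A Γ) (hS : Soc A N) (e : N ≃* alternatingGroup (Fin 10)) : A.index ≤ 2 ^ 34 := by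
  obtain ⟨G, hG, h1⟩ := index_le_maxNot hS h (by norm_num) e
  refine h1.trans ((Nat.pow_le_pow_left (ncard_maxNot_ten hBr hG) 2).trans ?_)
  norm_num

end Cfsg.Agent.H839.EP
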