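import Cfsg.Agent.H284.EP.TForm
import Cfsg.Agent.StandardComponent.AltAut

/-!
# S3499 (IV-L), alternating socles: the common frame (helper839)

`EPT A Γ` with `soc(A) = N ≅ A_n`, `n ≥ 7`: `Γ` embeds in `S_n` (`Rho`), the stabilisers `Γ_x` become maximal subgroups of the
image which do not contain `A_n` (`MaxNot`), and the number of two point stabilisers `A ∩ A^x` is at most the number of these.
-/

set_option autoImplicit false

namespace Cfsg.Agent.H839.EP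

open Subgroup Equiv Equiv.Perm Cfsg.Agent.H284

/-- `N` is the socle of `A` -/
structure Soc {Q : Type*} [Group Q] (A N : Subgroup Q) : Prop where
  le : N ≤ A
  nor : ∀ a ∈ A, ∀ x ∈ N, a * x * a⁻¹ ∈ N
  cen : ∀ a ∈ A, (∀ x ∈ N, a * x = x * a) → a = 1

section soc

variable {Q : Type*} [Group Q] [Finite Q] {A N : Subgroup Q} {Γ : Subgroup (MulAut Q)}

/-- a simple socle is invariant -/
theorem Soc.inv (hS : Soc A N) (h : EPT A Γ) (hs : IsSimpleGroup N) : ∀ σ ∈ Γ, ∀ x ∈ N, σ x ∈ N := by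
  intro σ hσ
  have hσ' : σ⁻¹ ∈ Γ := inv_mem hσ
  have hN'A : N.map σ.toMonoidHom ≤ A := by
    rintro _ ⟨x, hx, rfl⟩
    exact (h.inv σ hσ x).2 (hS.le hx)
  have hN'n : ∀ a ∈ A, ∀ y ∈ N.map σ.toMonoidHom, a * y * a⁻¹ ∈ N.map σ.toMonoidHom := by
    rintro a ha _ ⟨x, hx, rfl⟩
    refine ⟨σ⁻¹ a * x * (σ⁻¹ a)⁻¹, hS.nor _ ((h.inv _ hσ' a).2 ha) x hx, ?_⟩
    show σ (σ⁻¹ a * x * (σ⁻¹ a)⁻¹) = a * σ x * a⁻¹
    rw [map_mul, map_mul, map_inv, MulAut.apply_inv_self]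
  have hnor : ((N.map σ.toMonoidHom).subgroupOf N).Normal := by
    constructor
    intro y hy g
    rw [mem_subgroupOf] at hy ⊢
    exact hN'n g (hS.le g.2) y hy
  rcases hnor.eq_bot_or_eq_top with h1 | h1
  · exfalso
    have hdis : ∀ y : Q, y ∈ N → y ∈ N.map σ.toMonoidHom → y = 1 := by
      intro y hy hy'
      have : (⟨y, hy⟩ : N) ∈ (N.map σ.toMonoidHom).subgroupOf N := mem_subgroupOf.2 hy'
      rw [h1, mem_bot] at this
      exact Subtype.ext_iff.1 this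
    obtain ⟨x, hx⟩ := exists_ne (1 : N)
    apply hx
    have h2 : σ x = 1 := by
      apply hS.cen _ (hN'A ⟨x, x.2, rfl⟩)
      intro z hz
      have h3 : σ x * z * (σ x)⁻¹ * z⁻¹ = 1 := by
        apply hdis
        · exact N.mul_mem (hS.nor _ (hN'A ⟨x, x.2, rfl⟩) z hz) (N.inv_mem hz)
        · have h4 : σ x * z * (σ x)⁻¹ * z⁻¹ = σ x * (z * (σ x)⁻¹ * z⁻¹) := by group
          rw [h4]
          exact mul_mem ⟨x, x.2, rfl⟩ (hN'n z (hS.le hz) _ (inv_mem ⟨x, x.2, rfl⟩))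
      show σ x * z = z * σ x
      have h5 : σ x * z = σ x * z * (σ x)⁻¹ * z⁻¹ * (z * σ x) := by group
      rw [h5, h3, one_mul]
    apply Subtype.ext
    rw [← map_one σ] at h2
    exact σ.injective h2
  · have h2 : N ≤ N.map σ.toMonoidHom := by
      intro x hx
      have : (⟨x, hx⟩ : N) ∈ (N.map σ.toMonoidHom).subgroupOf N := by rw [h1]; exact mem_top _
      exact mem_subgroupOf.1 this
    have h3 : N = N.map σ.toMonoidHom :=
      Subgroup.eq_of_le_of_card_ge h2 (Nat.card_le_card_of_surjective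
        (fun x : N => (⟨σ x, x, x.2, rfl⟩ : N.map σ.toMonoidHom)) (by
          rintro ⟨_, x, hx, rfl⟩
          exact ⟨⟨x, hx⟩, rfl⟩))
    intro x hx
    rw [h3]
    exact ⟨x, hx, rfl⟩

end soc

/-- the permutation representation `ρ` of `Γ` -/
structure Rho {Q : Type*} [Group Q] (N : Subgroup Q) (Γ : Subgroup (MulAut Q)) {n : ℕ}
    (e : N ≃* alternatingGroup (Fin n)) (ρ : Γ →* Perm (Fin n)) : Prop where
  inj : Function.Injective ρ
  inv : ∀ σ ∈ Γ, ∀ x ∈ N, σ x ∈ N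
  act : ∀ (σ : Γ) (x y : N), (y : Q) = (σ : MulAut Q) x → (e y : Perm (Fin n)) = ρ σ * e x * (ρ σ)⁻¹
  con : ∀ (σ : Γ) (x : N), (σ : MulAut Q) = MulAut.conj (x : Q) → ρ σ = e x

/-- `L` is maximal in `G` and does not contain the alternating group -/
structure MaxNot {n : ℕ} (G L : Subgroup (Perm (Fin n))) : Prop where
  le : L ≤ G
  nalt : ¬ alternatingGroup (Fin n) ≤ L
  max : ∀ K : Subgroup (Perm (Fin n)), L ≤ K → K ≤ G → K = L ∨ K = G

/-- the workhorse for `MaxNot` -/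
theorem MaxNot.eq_inf {n : ℕ} {G L : Subgroup (Perm (Fin n))} (hG : alternatingGroup (Fin n) ≤ G) (hL : MaxNot G L)
    {K : Subgroup (Perm (Fin n))} (hK : L ≤ K) (hn : ¬ alternatingGroup (Fin n) ≤ K) : L = G ⊓ K := by
  rcases hL.max (G ⊓ K) (le_inf hL.le hK) inf_le_left with h1 | h1
  · exact h1.symm
  · exfalso
    apply hn
    rw [inf_eq_left] at h1
    exact hG.trans h1

section frame

variable {Q : Type*} [Group Q] {A N : Subgroup Q} {Γ : Subgroup (MulAut Q)}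

theorem exists_rho [Finite Q] (hS : Soc A N) (h : EPT A Γ) {n : ℕ} (hn : 7 ≤ n) (e : N ≃* alternatingGroup (Fin n)) :
    ∃ ρ : Γ →* Perm (Fin n), Rho N Γ e ρ := by
  obtain ⟨m, rfl⟩ : ∃ m, n = m + 2 := ⟨n - 2, by omega⟩
  have hs : IsSimpleGroup N := by
    have := alternatingGroup.isSimpleGroup (α := Fin (m + 2)) (by simp; omega)
    exact e.isSimpleGroup
  have hinv := hS.inv h hs
  obtain ⟨ψ, hψ⟩ := Cfsg.Agent.StandardComponent.AltAut.exists_autHom (m + 2) hn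
  let res : Γ →* MulAut N :=
    { toFun := fun σ =>
        { toFun := fun x => ⟨(σ : MulAut Q) (x : Q), hinv σ σ.2 x x.2⟩
          invFun := fun x => ⟨(σ : MulAut Q)⁻¹ (x : Q), hinv _ (inv_mem σ.2) x x.2⟩
          left_inv := fun x => Subtype.ext (MulAut.inv_apply_self Q (σ : MulAut Q) x)
          right_inv := fun x => Subtype.ext (MulAut.apply_inv_self Q (σ : MulAut Q) x)
          map_mul' := fun x y => Subtype.ext (map_mul (σ : MulAut Q) (x : Q) (y : Q)) }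
      map_one' := by ext x; rfl
      map_mul' := fun σ τ => by ext x; rfl }
  have hres : ∀ (σ : Γ) (x : N), ((res σ x : N) : Q) = (σ : MulAut Q) x := fun σ x => rfl
  have hact : ∀ (σ : Γ) (x y : N), (y : Q) = (σ : MulAut Q) x →
      (e y : Perm (Fin (m + 2))) = ψ (MulAut.congr e (res σ)) * e x * (ψ (MulAut.congr e (res σ)))⁻¹ := by
    intro σ x y hy
    rw [← hψ]
    have h1 : MulAut.congr e (res σ) (e x) = e (res σ (e.symm (e x))) := rfl
    rw [h1, e.symm_apply_apply]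
    have h2 : y = res σ x := Subtype.ext hy
    rw [h2]
  refine ⟨ψ.comp ((MulAut.congr e).toMonoidHom.comp res), ?_, hinv, hact, ?_⟩
  · rw [injective_iff_map_eq_one]
    intro σ hσ
    have hσ' : ψ (MulAut.congr e (res σ)) = 1 := hσ
    have hfix : ∀ x ∈ N, (σ : MulAut Q) x = x := by
      intro x hx
      have h1 := hact σ ⟨x, hx⟩ ⟨(σ : MulAut Q) x, hinv σ σ.2 x hx⟩ rfl
      rw [hσ', one_mul, inv_one, mul_one] at h1
      exact Subtype.ext_iff.1 (e.injective (Subtype.ext h1))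
    have h1 : (σ : MulAut Q) = 1 := by
      apply h.cent _ σ.2
      intro a ha
      have h2 : a⁻¹ * (σ : MulAut Q) a = 1 := by
        apply hS.cen _ (A.mul_mem (A.inv_mem ha) ((h.inv _ σ.2 a).2 ha))
        intro x hx
        have h3 := hfix _ (hS.nor a ha x hx)
        rw [map_mul, map_mul, map_inv, hfix x hx] at h3
        have h4 : a⁻¹ * (σ : MulAut Q) a * x = a⁻¹ * ((σ : MulAut Q) a * x * ((σ : MulAut Q) a)⁻¹) * (σ : MulAut Q) a := by
          group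
        rw [h4, h3]
        group
      rw [inv_mul_eq_one] at h2
      exact h2.symm
    exact Subtype.ext h1
  · intro σ x hσ
    apply Cfsg.Agent.StandardComponent.AltAut.conj_unique (m := m) (by omega)
    intro p
    have h1 := hact σ (e.symm p) ⟨x * (e.symm p : N) * (x : Q)⁻¹, N.mul_mem (N.mul_mem x.2 (e.symm p).2) (N.inv_mem x.2)⟩ (by
      rw [hσ, MulAut.conj_apply])
    rw [e.apply_symm_apply] at h1
    refine h1.symm.trans ?_
    have h2 : (⟨x * (e.symm p : N) * (x : Q)⁻¹, N.mul_mem (N.mul_mem x.2 (e.symm p).2) (N.inv_mem x.2)⟩ : N) =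
        x * e.symm p * x⁻¹ := rfl
    rw [h2, map_mul, map_mul, map_inv, e.apply_symm_apply]
    rfl

/-- the stabiliser of the point `xA` in `Γ` -/
def stabG (h : EPT A Γ) (x : Q) : Subgroup Γ where
  carrier := {σ | x⁻¹ * (σ : MulAut Q) x ∈ A}
  one_mem' := by
    show x⁻¹ * x ∈ A
    rw [inv_mul_cancel]
    exact one_mem _
  mul_mem' := by
    intro σ τ hσ hτ
    show x⁻¹ * (σ : MulAut Q) ((τ : MulAut Q) x) ∈ A
    have e1 : x⁻¹ * (σ : MulAut Q) ((τ : MulAut Q) x) = (x⁻¹ * (σ : MulAut Q) x) * (σ : MulAut Q) (x⁻¹ * (τ : MulAut Q) x) := by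
      rw [map_mul, map_inv]; group
    rw [e1]
    exact A.mul_mem hσ ((h.inv _ σ.2 _).2 hτ)
  inv_mem' := by
    intro σ hσ
    have h3 := (h.inv _ (Γ.inv_mem σ.2) _).2 (A.inv_mem hσ)
    have e4 : (σ : MulAut Q)⁻¹ (x⁻¹ * (σ : MulAut Q) x)⁻¹ = x⁻¹ * (σ : MulAut Q)⁻¹ x := by
      rw [mul_inv_rev, map_mul, map_inv, MulAut.inv_apply_self, inv_inv]
    rw [e4] at h3
    exact h3

theorem mem_stabG {h : EPT A Γ} {x : Q} {σ : Γ} : σ ∈ stabG h x ↔ x⁻¹ * (σ : MulAut Q) x ∈ A := Iff.rfl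

/-- conjugation `A → Γ` -/
def conjA (h : EPT A Γ) : A →* Γ := (MulAut.conj.comp A.subtype).codRestrict Γ fun a => (h.conj a).2 a.2

variable {n : ℕ} {e : N ≃* alternatingGroup (Fin n)} {ρ : Γ →* Perm (Fin n)}

/-- the image of the stabiliser of `xA` -/
def LL (h : EPT A Γ) (ρ : Γ →* Perm (Fin n)) (x : Q) : Subgroup (Perm (Fin n)) := (stabG h x).map ρ

theorem Rho.alt_le (hR : Rho N Γ e ρ) (hS : Soc A N) (h : EPT A Γ) : alternatingGroup (Fin n) ≤ ρ.range := by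
  intro p hp
  refine ⟨⟨MulAut.conj ((e.symm ⟨p, hp⟩ : N) : Q), (h.conj _).2 (hS.le (e.symm ⟨p, hp⟩).2)⟩, ?_⟩
  rw [hR.con _ (e.symm ⟨p, hp⟩) rfl, e.apply_symm_apply]

/-- `M0` in terms of `L_x` -/
theorem Rho.mem_M0 (hR : Rho N Γ e ρ) (h : EPT A Γ) {x : Q} {a : A} :
    (a : Q) ∈ cj x A ↔ ρ (conjA h a) ∈ LL h ρ x := by
  rw [← h.conj_stab a.2]
  constructor
  · intro h1
    exact ⟨_, mem_stabG.2 h1, rfl⟩
  · rintro ⟨σ, hσ, h1⟩
    have h2 := hR.inj h1
    rw [h2] at hσ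
    exact mem_stabG.1 hσ

theorem Rho.maxNot (hR : Rho N Γ e ρ) (hS : Soc A N) (h : EPT A Γ) (hn : 3 ≤ n) {x : Q} (hx : x ∉ A) :
    MaxNot ρ.range (LL h ρ x) := by
  refine ⟨?_, ?_, ?_⟩
  · rintro _ ⟨σ, _, rfl⟩
    exact ⟨σ, rfl⟩
  · intro hle
    have h1 : N = ⊥ := by
      refine h.F1 x hx N hS.le hR.inv ?_
      intro y hy
      have h2 : ρ (conjA h ⟨y, hS.le hy⟩) = e ⟨y, hy⟩ := hR.con _ ⟨y, hy⟩ rfl
      exact (hR.mem_M0 h (a := ⟨y, hS.le hy⟩)).2 (by rw [h2]; exact hle (e ⟨y, hy⟩).2)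
    have h2 : Nat.card N = Nat.card (alternatingGroup (Fin n)) := Nat.card_congr e.toEquiv
    rw [h1, Subgroup.card_bot] at h2
    have h3 : Nontrivial (alternatingGroup (Fin n)) := alternatingGroup.nontrivial_of_three_le_card (by simpa using hn)
    have h4 : 1 < Nat.card (alternatingGroup (Fin n)) := Finite.one_lt_card
    omega
  · intro K hLK hKG
    have h1 := h.two x hx ((K.comap ρ).map Γ.subtype) (by
      rintro _ ⟨σ, _, rfl⟩
      exact σ.2) (by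
      intro σ hσ hσx
      exact ⟨⟨σ, hσ⟩, hLK ⟨⟨σ, hσ⟩, hσx, rfl⟩, rfl⟩)
    rcases h1 with h1 | h1
    · right
      apply le_antisymm hKG
      rintro _ ⟨σ, rfl⟩
      have h2 : (σ : MulAut Q) ∈ (K.comap ρ).map Γ.subtype := by rw [h1]; exact σ.2
      obtain ⟨τ, hτ, h3⟩ := h2
      have h4 : τ = σ := Subtype.ext h3
      rw [← h4]
      exact hτ
    · left
      apply le_antisymm _ hLK
      intro k hk
      obtain ⟨σ, rfl⟩ := hKG hk
      exact ⟨σ, h1 σ ⟨σ, hk, rfl⟩, rfl⟩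

/-- the number of two point stabilisers -/
theorem Rho.ncard_le (hR : Rho N Γ e ρ) (hS : Soc A N) (h : EPT A Γ) (hn : 3 ≤ n) :
    {M : Subgroup Q | ∃ x, x ∉ A ∧ M = A ⊓ cj x A}.ncard ≤ {L : Subgroup (Perm (Fin n)) | MaxNot ρ.range L}.ncard := by
  have hfin : {L : Subgroup (Perm (Fin n)) | MaxNot ρ.range L}.Finite := Set.toFinite _
  refine le_trans (Set.ncard_le_ncard ?_ (hfin.image
    (fun L => (L.comap (ρ.comp (conjA h))).map A.subtype))) (Set.ncard_image_le hfin)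
  rintro _ ⟨x, hx, rfl⟩
  refine ⟨LL h ρ x, hR.maxNot hS h hn hx, ?_⟩
  ext a
  constructor
  · rintro ⟨b, hb, rfl⟩
    exact ⟨b.2, (hR.mem_M0 h).2 hb⟩
  · rintro ⟨h1, h2⟩
    exact ⟨⟨a, h1⟩, (hR.mem_M0 h (a := ⟨a, h1⟩)).1 h2, rfl⟩

/-- **The frame**: the index of `A` is at most the square of the number of maximal subgroups of `G` (`A_n ≤ G ≤ S_n`) which do not
contain `A_n`. -/
theorem index_le_maxNot [Finite Q] (hS : Soc A N) (h : EPT A Γ) (hn : 7 ≤ n) (e : N ≃* alternatingGroup (Fin n)) :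
    ∃ G : Subgroup (Perm (Fin n)), alternatingGroup (Fin n) ≤ G ∧
      A.index ≤ {L : Subgroup (Perm (Fin n)) | MaxNot G L}.ncard ^ 2 := by
  obtain ⟨ρ, hR⟩ := exists_rho hS h hn e
  exact ⟨ρ.range, hR.alt_le hS h, h.index_le.trans (Nat.pow_le_pow_left (hR.ncard_le hS h (by omega)) 2)⟩

end frame

end Cfsg.Agent.H839.EP
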